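import Groth.Agent.Lib.BdlTensor8.Basic
import Groth.Agent.Lib.VA.BaseChange
import Groth.Agent.Lib.VA.Exists
import Groth.Agent.Lib.Ample.RelAmple

/-!
# Ampleness of the fundamental sheaf of a pulled back bundle
-/

set_option autoImplicit false
set_option linter.all false
set_option backward.isDefEq.respectTransparency false
set_option maxHeartbeats 1000000

universe u

open CategoryTheory CategoryTheory.Limits AlgebraicGeometry TopologicalSpace Opposite
open GrothLib.InvExt (mres fres IsGen)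
open GrothLib.VA

noncomputable section

namespace GrothLib.BdlTensor8

theorem isAmple_pullback_bdl_iff {X X' P' : Scheme.{u}} (g : X' ⟶ X) [IsAffineHom g] {E : X.Modules}
    (hE : Coh.IsQCoh E) (B : Bdl X) (hBE : B.E = E) {g' : P' ⟶ B.P} {p' : P' ⟶ X'}
    (H : IsPullback g' p' B.p g)
    {𝒮 : RelProj.QCGrAlg X'} {j : (Scheme.Modules.pullback g).obj E ⟶ 𝒮.toModule}
    (hj : RelProj.IsGrSymAlg ((Scheme.Modules.pullback g).obj E) 𝒮 j) {Q : Scheme.{u}} {q : Q ⟶ X'}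
    {chart : ∀ (U : X'.Opens) (hU : IsAffineOpen U), (((q ⁻¹ᵁ U : Q.Opens) : Scheme.{u}) ≅ Proj (𝒮.deg U hU))}
    (hQ : RelProj.IsRelProj 𝒮 q chart) {O1 : Q.Modules}
    {lam : ∀ (U : X'.Opens) (hU : IsAffineOpen U),
      O1 ⟶ (Scheme.Modules.pushforward (RelProj.emb q chart U hU)).obj (GrTwist.twist (𝒮.deg U hU) 1)}
    (hO1 : RelProj.IsRelTwist 𝒮 q chart 1 O1 lam) :
    CohB1.IsAmple O1 ↔ CohB1.IsAmple ((Scheme.Modules.pullback g').obj B.O) := by
  subst hBE
  obtain ⟨c, hc⟩ := exists_canon hj hQ hO1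
  let B' : Bdl X' := ⟨(Scheme.Modules.pullback g).obj B.E, isQCoh_pullback g hE,
    𝒮, j, hj, Q, q, chart, hQ, O1, lam, hO1, c, hc⟩
  let η := (Scheme.Modules.pullbackPushforwardAdjunction g).unit.app B.E
  let pre : X.AffineZariskiSite → X'.AffineZariskiSite := fun U => ⟨g ⁻¹ᵁ U.1, U.2.preimage g⟩
  let un : ∀ U : X.AffineZariskiSite, Γ(B.E, U.1) → Γ(B'.E, (pre U).1) := fun U e => η.app U.1 e
  -- sections of `E` on the new bundle
  let φ₁ : B.E ⟶ (Scheme.Modules.pushforward (B'.p ≫ g)).obj B'.O :=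
    η ≫ (Scheme.Modules.pushforward g).map B'.can ≫ (Scheme.Modules.pushforwardComp B'.p g).hom.app B'.O
  have hcan : IsGenBy B'.p B'.can := fun x => by
    obtain ⟨U, hU, hx, -⟩ := exists_isAffineOpen_mem_and_subset (Opens.mem_top (B'.p x))
    obtain ⟨e, he⟩ := exists_pc (chart := B'.chart) B'.isQCoh B'.isSym ⟨U, hU⟩ (z := x) hx
    exact ⟨U, hU, e, B'.piece ⟨U, hU⟩ e, pc_le _ e, he, B'.isGen_img ⟨U, hU⟩ e⟩
  have hφ₁ : IsGenBy (B'.p ≫ g) φ₁ := by
    haveI := epi_symm_of_isGenBy B'.p B'.can hcan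
    have h := homEquiv_pullbackComp B'.p g
      (((Scheme.Modules.pullbackPushforwardAdjunction B'.p).homEquiv _ B'.O).symm B'.can)
    rw [Equiv.apply_symm_apply,
      show (Scheme.Modules.pullbackPushforwardAdjunction g).homEquiv B.E _ B'.can =
        η ≫ (Scheme.Modules.pushforward g).map B'.can from Adjunction.homEquiv_unit .., Category.assoc] at h
    haveI : Epi (((Scheme.Modules.pullbackPushforwardAdjunction (B'.p ≫ g)).homEquiv B.E B'.O).symm φ₁) := by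
      show Epi (((Scheme.Modules.pullbackPushforwardAdjunction (B'.p ≫ g)).homEquiv B.E B'.O).symm
        (η ≫ (Scheme.Modules.pushforward g).map B'.can ≫ (Scheme.Modules.pushforwardComp B'.p g).hom.app B'.O))
      rw [← h, Equiv.symm_apply_apply]
      exact epi_comp _ _
    exact exists_genAt_of_epi (B'.p ≫ g) B'.isInvertible φ₁
  -- sections of the pullback of `E` on the base change
  let u := (Scheme.Modules.pullbackPushforwardAdjunction g').unit.app B.O
  let φ₀ : B.E ⟶ (Scheme.Modules.pushforward (p' ≫ g)).obj ((Scheme.Modules.pullback g').obj B.O) :=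
    B.can ≫ (Scheme.Modules.pushforward B.p).map u ≫ (Scheme.Modules.pushforwardComp g' B.p).hom.app _ ≫
      (Scheme.Modules.pushforwardCongr H.w).hom.app _
  obtain ⟨φ', hφ'⟩ := exists_factor p' g φ₀
  have hpre : ∀ W : X.Opens, p' ⁻¹ᵁ (g ⁻¹ᵁ W) = g' ⁻¹ᵁ (B.p ⁻¹ᵁ W) := fun W =>
    show (p' ≫ g) ⁻¹ᵁ W = (g' ≫ B.p) ⁻¹ᵁ W by rw [H.w]
  have hgen' : ∀ (U : X.AffineZariskiSite) (e : Γ(B.E, U.1)),
      Tp p' φ' (pre U) (un U e) = g' ⁻¹ᵁ B.piece U e := by
    intro U e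
    ext x
    show x ∈ genOpen _ _ ↔ g' x ∈ B.piece U e
    rw [mem_genOpen]
    show GenAt ((Scheme.Modules.pullback g').obj B.O) (V := p' ⁻¹ᵁ (g ⁻¹ᵁ U.1)) (φ'.app (g ⁻¹ᵁ U.1) (un U e)) x ↔ _
    have h0 : φ'.app (g ⁻¹ᵁ U.1) (un U e) = mres ((Scheme.Modules.pullback g').obj B.O) (hpre U.1).le
          (show Γ((Scheme.Modules.pullback g').obj B.O, g' ⁻¹ᵁ (B.p ⁻¹ᵁ U.1)) from
            u.app (B.p ⁻¹ᵁ U.1) (B.can.app U.1 e)) := (hφ' U.1 e).trans rfl
    rw [h0, genAt_mres]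
    refine ⟨fun h => mem_pc_of_genAt B.isQCoh B.isSym B.isCanon ((genAt_unit_iff g' B.isInvertible _).mp h.2),
      fun h => ⟨(hpre U.1).ge (pc_le U e h), (genAt_unit_iff g' B.isInvertible _).mpr ?_⟩⟩
    exact ⟨_, pc_le U e, h, B.isGen_img U e⟩
  have hφ'gen : IsGenBy p' φ' := fun x => by
    obtain ⟨U, hU, hxU, -⟩ := exists_isAffineOpen_mem_and_subset (Opens.mem_top (B.p (g' x)))
    obtain ⟨e, he⟩ := exists_pc (chart := B.chart) B.isQCoh B.isSym ⟨U, hU⟩ (z := g' x) hxU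
    exact ⟨_, (pre ⟨U, hU⟩).2, un ⟨U, hU⟩ e, mem_genOpen.mp ((hgen' ⟨U, hU⟩ e).ge he)⟩
  have hTp₁ : ∀ (U : X.AffineZariskiSite) (e : Γ(B.E, U.1)),
      Tp (B'.p ≫ g) φ₁ U e = B'.piece (pre U) (un U e) := by
    intro U e
    ext x
    show x ∈ genOpen _ _ ↔ x ∈ B'.piece (pre U) (un U e)
    rw [mem_genOpen]
    exact ⟨fun hg => mem_pc_of_genAt B'.isQCoh B'.isSym B'.isCanon hg,
      fun hx => ⟨_, pc_le (pre U) _, hx, B'.isGen_img (pre U) _⟩⟩
  -- the two comparison morphisms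
  obtain ⟨t, θ, ht⟩ := Bdl.exists_lift (B := B) hφ₁
  obtain ⟨s, θ', hs⟩ := Bdl.exists_lift (B := B') hφ'gen
  haveI := ht.isIso_symm
  haveI := hs.isIso_symm
  haveI : IsAffineHom g' := MorphismProperty.of_isPullback (P := @IsAffineHom) H.flip ‹IsAffineHom g›
  haveI : IsAffineHom t := by
    refine HasAffineProperty.of_iSup_eq_top (P := @IsAffineHom)
      (fun i : Σ U : X.AffineZariskiSite, Γ(B.E, U.1) => ⟨B.piece i.1 i.2, isAffineOpen_piece B _ _⟩)
      (iSup_pc B.isQCoh B.isSym) fun i => ?_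
    show IsAffineOpen (t ⁻¹ᵁ B.piece i.1 i.2)
    rw [ht.preimage_piece, hTp₁]
    exact isAffineOpen_piece B' _ _
  haveI : IsAffineHom s := by
    refine HasAffineProperty.of_iSup_eq_top (P := @IsAffineHom)
      (fun i : Σ U : X.AffineZariskiSite, Γ(B.E, U.1) =>
        ⟨B'.piece (pre i.1) (un i.1 i.2), isAffineOpen_piece B' _ _⟩)
      (eq_top_iff.mpr fun z _ => ?_) fun i => ?_
    · obtain ⟨U, hU, e, he⟩ := hφ₁ z
      exact Opens.mem_iSup.mpr ⟨⟨⟨U, hU⟩, e⟩, (hTp₁ ⟨U, hU⟩ e).le (mem_genOpen.mpr he)⟩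
    show IsAffineOpen (s ⁻¹ᵁ B'.piece (pre i.1) (un i.1 i.2))
    rw [hs.preimage_piece, hgen']
    exact (isAffineOpen_piece B _ _).preimage g'
  let et := asIso (((Scheme.Modules.pullbackPushforwardAdjunction t).homEquiv B.O B'.O).symm θ)
  let es := asIso (((Scheme.Modules.pullbackPushforwardAdjunction s).homEquiv B'.O _).symm θ')
  constructor
  · intro h
    exact (Ample.isAmple_iff_of_iso es).mp (Ample.isAmple_pullback_of_isAffineHom s h)
  · intro h
    let t' : Q ⟶ P' := H.lift t B'.p ht.comp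
    haveI : IsAffineHom t' := by
      haveI : IsAffineHom (t' ≫ g') := by rw [H.lift_fst]; infer_instance
      haveI : IsSeparated g' := inferInstance
      exact IsAffineHom.of_comp t' g'
    have e1 : (Scheme.Modules.pullback t').obj ((Scheme.Modules.pullback g').obj B.O) ≅ B'.O :=
      (Scheme.Modules.pullbackComp t' g').app B.O ≪≫ (Scheme.Modules.pullbackCongr (H.lift_fst _ _ _)).app B.O ≪≫ et
    exact (Ample.isAmple_iff_of_iso e1).mp (Ample.isAmple_pullback_of_isAffineHom t' h)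

end GrothLib.BdlTensor8
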