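import Groth.Agent.Lib.VA.Tensor
import Groth.Agent.Lib.VA.VeryAmple
import Groth.Agent.Lib.TensorGen.Basic
import Groth.Agent.Lib.RelProjK.Twist
import Groth.Agent.Lib.RelProjK.Amp
import Groth.Agent.Lib.InvExt.Transfer

/-!
# The projective bundle of a twist by an invertible module
-/

set_option autoImplicit false
set_option linter.all false
set_option backward.isDefEq.respectTransparency false
set_option maxHeartbeats 1000000

universe u

open CategoryTheory CategoryTheory.Limits AlgebraicGeometry TopologicalSpace Opposite HomogeneousLocalization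
open GrothLib.InvExt (mres fres IsGen)
open GrothLib.RelProjK (dg em mem_opensRange_em)
open GrothLib.VA

noncomputable section

namespace GrothLib.BdlTensor8

variable {Y : Scheme.{u}} (B : Bdl Y)

theorem em_preimage_piece (U : Y.AffineZariskiSite) (e : Γ(B.E, U.1)) :
    em B.p B.chart U ⁻¹ᵁ B.piece U e = Proj.basicOpen (dg B.S U) (ev B.j U e) :=
  Scheme.Hom.preimage_image_eq _ _

theorem isAffineOpen_piece (U : Y.AffineZariskiSite) (e : Γ(B.E, U.1)) : IsAffineOpen (B.piece U e) :=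
  (Proj.isAffineOpen_basicOpen (dg B.S U) (ev B.j U e) (B.isSym.2 U.1 U.2 e) one_pos).image_of_isOpenImmersion _

/-- Functions on a piece, to the functions on the basic open of the chart. -/
def toChart (U : Y.AffineZariskiSite) (e : Γ(B.E, U.1)) :
    Γ(B.P, B.piece U e) ⟶ Γ(Proj (dg B.S U), Proj.basicOpen (dg B.S U) (ev B.j U e)) :=
  (em B.p B.chart U).appLE _ _ (em_preimage_piece B U e).ge

theorem isIso_toChart (U : Y.AffineZariskiSite) (e : Γ(B.E, U.1)) : IsIso (toChart B U e) := by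
  haveI := (em B.p B.chart U).isIso_app (B.piece U e)
    (fun z hz => (mem_opensRange_em U).mpr (pc_le U e hz))
  show IsIso ((em B.p B.chart U).app _ ≫ (Proj (dg B.S U)).presheaf.map _)
  haveI : IsIso ((Proj (dg B.S U)).presheaf.map (homOfLE (em_preimage_piece B U e).ge).op) :=
    ⟨(Proj (dg B.S U)).presheaf.map (homOfLE (em_preimage_piece B U e).le).op,
      by rw [← Functor.map_comp]; exact (Proj (dg B.S U)).presheaf.map_id _,
      by rw [← Functor.map_comp]; exact (Proj (dg B.S U)).presheaf.map_id _⟩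
  infer_instance

/-- Functions on a piece as homogeneous fractions. -/
def pieceIso (U : Y.AffineZariskiSite) (e : Γ(B.E, U.1)) :
    Γ(B.P, B.piece U e) ≅ CommRingCat.of (Away (dg B.S U) (ev B.j U e)) :=
  haveI := isIso_toChart B U e
  asIso (toChart B U e) ≪≫ (Proj.basicOpenIsoAway (dg B.S U) (ev B.j U e) (B.isSym.2 U.1 U.2 e) one_pos).symm

theorem pieceIso_apply_eq (U : Y.AffineZariskiSite) (e : Γ(B.E, U.1)) {s : Γ(B.P, B.piece U e)}
    {z : Away (dg B.S U) (ev B.j U e)}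
    (h : toChart B U e s = Proj.awayToSection (dg B.S U) (ev B.j U e) z) : (pieceIso B U e).hom s = z := by
  show (Proj.basicOpenIsoAway (dg B.S U) (ev B.j U e) (B.isSym.2 U.1 U.2 e) one_pos).inv (toChart B U e s) = z
  rw [h, ← Proj.basicOpenIsoAway_hom (dg B.S U) (ev B.j U e) (B.isSym.2 U.1 U.2 e) one_pos,
    Iso.hom_inv_id_apply]

theorem pieceIso_str (U : Y.AffineZariskiSite) (e : Γ(B.E, U.1)) (r₀ : Γ(Y, U.1)) :
    (pieceIso B U e).hom (fres B.P (pc_le U e) (B.p.app U.1 r₀)) =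
      fromZeroRingHom (dg B.S U) _ ((B.S.strZero U.1 U.2).hom r₀) :=
  pieceIso_apply_eq B U e (Bdl.appLE_str U e r₀ _)

theorem pieceIso_rat (U : Y.AffineZariskiSite) (e b : Γ(B.E, U.1)) {s : Γ(B.P, B.piece U e)}
    (hs : B.img U e b = s • B.img U e e) :
    (pieceIso B U e).hom s = Away.mk (dg B.S U) (f := ev B.j U e) (B.isSym.2 U.1 U.2 e) 1 (ev B.j U b)
      (by simpa using B.isSym.2 U.1 U.2 b) :=
  pieceIso_apply_eq B U e (appLE_rat B.isSym B.isCanon U e b hs _)

theorem closure_gens (U : Y.AffineZariskiSite) :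
    Subring.closure ((dg B.S U 0 : Set (B.S.presheaf.obj (op U.1))) ∪ Set.range (ev B.j U)) = ⊤ := by
  refine eq_top_iff.mpr ((closure_str_ev B.isQCoh B.isSym U).ge.trans
    (Subring.closure_mono (Set.union_subset_union_left _ ?_)))
  rintro _ ⟨r, rfl⟩
  exact B.S.str_mem U.1 U.2 r

variable (L : Y.Modules)

/-- The unit on sections of a twisting module. -/
abbrev unitL : L ⟶ (Scheme.Modules.pushforward B.p).obj ((Scheme.Modules.pullback B.p).obj L) :=
  (Scheme.Modules.pullbackPushforwardAdjunction B.p).unit.app L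

/-- The twisted canonical map. -/
def twMap : CohB1.tensorMod B.E L ⟶
    (Scheme.Modules.pushforward B.p).obj (CohB1.tensorMod B.O ((Scheme.Modules.pullback B.p).obj L)) :=
  (secPairing B.p B.can (unitL B L)).hom

theorem twMap_tm (U : Y.Opens) (b : Γ(B.E, U)) (ε : Γ(L, U)) :
    (twMap B L).app U (tm b ε) =
      tm (show Γ(B.O, B.p ⁻¹ᵁ U) from B.can.app U b)
        (show Γ((Scheme.Modules.pullback B.p).obj L, B.p ⁻¹ᵁ U) from (unitL B L).app U ε) :=
  (secPairing B.p B.can (unitL B L)).hom_tmul U b ε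

variable {L} (hL : PicF.IsInvertible L)

include hL in
theorem Tp_twMap (U : Y.AffineZariskiSite) (e : Γ(B.E, U.1)) {ε : Γ(L, U.1)} (hε : IsGen L U.1 ε) :
    Tp B.p (twMap B L) U (tm e ε) = B.piece U e := by
  have hεu := isGen_unit B.p hL hε
  ext x
  show x ∈ genOpen _ _ ↔ x ∈ B.piece U e
  rw [mem_genOpen, twMap_tm, genAt_tm B.isInvertible (Ample.isInvertible_pullback B.p hL)]
  refine ⟨fun h => mem_pc_of_genAt B.isQCoh B.isSym B.isCanon h.1,
    fun h => ⟨⟨_, pc_le U e, h, B.isGen_img U e⟩, B.p ⁻¹ᵁ U.1, le_rfl, pc_le U e h, ?_⟩⟩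
  rw [InvExt.mres_self]
  exact hεu

include hL in
theorem exists_gen_affine (y : Y) :
    ∃ (U : Y.AffineZariskiSite) (ε : Γ(L, U.1)), y ∈ U.1 ∧ IsGen L U.1 ε := by
  obtain ⟨V, ε, hy, hε⟩ := InvExt.exists_gen_nhd hL y
  obtain ⟨U, hU, hyU, hUV⟩ := exists_isAffineOpen_mem_and_subset hy
  exact ⟨⟨U, hU⟩, _, hyU, hε.restrict (show U ≤ V from hUV)⟩

include hL in
theorem isGenBy_twMap : IsGenBy B.p (twMap B L) := by
  intro x
  obtain ⟨U, ε, hxU, hε⟩ := exists_gen_affine hL (B.p x)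
  obtain ⟨e, he⟩ := exists_pc (chart := B.chart) B.isQCoh B.isSym U hxU
  exact ⟨U.1, U.2, tm e ε, mem_genOpen.mp ((Tp_twMap B hL U e hε).ge he)⟩

variable {B}

section ring

variable (U : Y.AffineZariskiSite) {ε : Γ(L, U.1)}
  {𝒯 : RelProj.QCGrAlg Y} (k : CohB1.tensorMod B.E L ⟶ 𝒯.toModule)
  (hk : RelProj.IsGrSymAlg (CohB1.tensorMod B.E L) 𝒯 k)

variable (ε) in
include hk in
/-- The graded map of charts given by a section of the twisting module. -/
theorem exists_gradedHom :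
    ∃ Φ : dg B.S U →+*ᵍ dg 𝒯 U, (∀ r, Φ ((B.S.str.app (op U.1)).hom r) = (𝒯.str.app (op U.1)).hom r) ∧
      ∀ b, Φ (ev B.j U b) = ev k U (tm b ε) := by
  classical
  obtain ⟨q, hqs, hqj⟩ := SymAlgX.isAffSym_of_isSymAlg B.isQCoh B.isSym.1 U.1 U.2
  obtain ⟨F, hFs, hFg⟩ := SymAlgX.exists_ringHom (R := Γ(Y, U.1)) (M := Γ(B.E, U.1))
    (B := 𝒯.presheaf.obj (op U.1)) (𝒯.str.app (op U.1)).hom
    (AddMonoidHom.mk' (fun b : Γ(B.E, U.1) => ev k U (tm b ε)) fun a b => by
      rw [tm_add_left]; exact map_add _ _ _)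
    (fun r b => by
      show ev k U (tm (r • b) ε) = (𝒯.str.app (op U.1)).hom r * ev k U (tm b ε)
      rw [tm_smul_left]
      exact Scheme.Modules.Hom.app_smul k r (tm b ε))
  let Φ := F.comp q.symm.toRingHom
  have hs : ∀ r, Φ ((B.S.str.app (op U.1)).hom r) = (𝒯.str.app (op U.1)).hom r := fun r => by
    show F (q.symm _) = _
    rw [← hqs r, RingEquiv.symm_apply_apply, hFs]
  have he : ∀ b, Φ (ev B.j U b) = ev k U (tm b ε) := fun b => by
    show F (q.symm _) = _
    rw [show ev B.j U b = q _ from (hqj b).symm, RingEquiv.symm_apply_apply, hFg]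
    rfl
  have key : ∀ a ∈ Subring.closure (Set.range (B.S.str.app (op U.1)).hom ∪ Set.range (ev B.j U)),
      ∀ n, Φ (DirectSum.decompose (dg B.S U) a n) ∈ dg 𝒯 U n := by
    have single : ∀ {m : ℕ} {a : B.S.presheaf.obj (op U.1)}, a ∈ dg B.S U m → Φ a ∈ dg 𝒯 U m →
        ∀ n, Φ (DirectSum.decompose (dg B.S U) a n) ∈ dg 𝒯 U n := by
      intro m a ha h n
      rcases eq_or_ne m n with rfl | hne
      · rwa [DirectSum.decompose_of_mem_same (dg B.S U) ha]
      · rw [DirectSum.decompose_of_mem_ne (dg B.S U) ha hne, map_zero]; exact zero_mem _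
    intro a ha
    induction ha using Subring.closure_induction with
    | mem x hx =>
      rcases hx with ⟨r, rfl⟩ | ⟨b, rfl⟩
      · exact single (B.S.str_mem U.1 U.2 r) (by rw [hs]; exact 𝒯.str_mem U.1 U.2 r)
      · exact single (B.isSym.2 U.1 U.2 b) (by rw [he]; exact hk.2 U.1 U.2 _)
    | zero => exact single (zero_mem (dg B.S U 0)) (by rw [map_zero]; exact zero_mem _)
    | one => exact single (SetLike.GradedOne.one_mem (A := dg B.S U)) (by rw [map_one]; exact SetLike.GradedOne.one_mem (A := dg 𝒯 U))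
    | add x y _ _ hx hy =>
      intro n
      rw [DirectSum.decompose_add, DirectSum.add_apply, AddMemClass.coe_add, map_add]
      exact add_mem (hx n) (hy n)
    | neg x _ hx =>
      intro n
      rw [DirectSum.decompose_neg, DFinsupp.neg_apply, NegMemClass.coe_neg, map_neg]
      exact neg_mem (hx n)
    | mul x y _ _ hx hy =>
      intro n
      rw [DirectSum.decompose_mul, DirectSum.coe_mul_apply, map_sum]
      refine sum_mem fun ij hij => ?_
      obtain rfl : ij.1 + ij.2 = n := (Finset.mem_filter.mp hij).2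
      rw [map_mul]
      exact SetLike.mul_mem_graded (hx ij.1) (hy ij.2)
  refine ⟨⟨Φ, fun {n a} ha => ?_⟩, hs, he⟩
  have := key a ((closure_str_ev B.isQCoh B.isSym U).ge (Subring.mem_top a)) n
  rwa [DirectSum.decompose_of_mem_same (dg B.S U) ha] at this

end ring

variable (B) (𝒯 : RelProj.QCGrAlg Y) (k : CohB1.tensorMod B.E L ⟶ 𝒯.toModule)
  (hk : RelProj.IsGrSymAlg (CohB1.tensorMod B.E L) 𝒯 k) {Q : Scheme.{u}} (q : Q ⟶ Y)
  (chartQ : ∀ (U : Y.Opens) (hU : IsAffineOpen U), (((q ⁻¹ᵁ U : Q.Opens) : Scheme.{u}) ≅ Proj (𝒯.deg U hU)))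

include hL hk in
theorem exists_iso (hQ : RelProj.IsRelProj 𝒯 q chartQ) (OQ : Q.Modules)
    (lamQ : ∀ (U : Y.Opens) (hU : IsAffineOpen U),
      OQ ⟶ (Scheme.Modules.pushforward (RelProj.emb q chartQ U hU)).obj (GrTwist.twist (𝒯.deg U hU) 1))
    (hOQ : RelProj.IsRelTwist 𝒯 q chartQ 1 OQ lamQ) :
    ∃ i : B.P ≅ Q, i.hom ≫ q = B.p ∧ Nonempty ((Scheme.Modules.pullback i.hom).obj OQ ≅
      CohB1.tensorMod B.O ((Scheme.Modules.pullback B.p).obj L)) := by
  obtain ⟨c, hc⟩ := exists_canon hk hQ hOQ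
  let C : Bdl Y := ⟨CohB1.tensorMod B.E L, isQCoh_tensor B.isQCoh (InvExt.isQuasicoherent_of_isInvertible hL),
    𝒯, k, hk, Q, q, chartQ, hQ, OQ, lamQ, hOQ, c, hc⟩
  obtain ⟨r, θ, h⟩ := Bdl.exists_lift (B := C) (g := B.p) (φ := twMap B L) (isGenBy_twMap B hL)
  -- the pieces
  let ι := Σ U : Y.AffineZariskiSite, { ε : Γ(L, U.1) // IsGen L U.1 ε } × Γ(B.E, U.1)
  let W : ι → Q.affineOpens := fun i => ⟨C.piece i.1 (tm i.2.2 i.2.1.1), isAffineOpen_piece C _ _⟩
  have hW : ⨆ i, (W i : Q.Opens) = ⊤ := by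
    refine eq_top_iff.mpr fun z _ => ?_
    obtain ⟨U, ε, hzU, hε⟩ := exists_gen_affine hL (q z)
    obtain ⟨t, ht⟩ := exists_pc (chart := C.chart) C.isQCoh C.isSym U (z := z) hzU
    obtain ⟨e, he⟩ := (TensorGen.bijective_tm B.E L hε).2 t
    obtain rfl : tm e ε = t := he
    exact Opens.mem_iSup.mpr ⟨⟨U, ⟨ε, hε⟩, e⟩, ht⟩
  have hpre : ∀ i : ι, r ⁻¹ᵁ (W i : Q.Opens) = B.piece i.1 i.2.2 := fun i =>
    (h.preimage_piece _ _).trans (Tp_twMap B hL i.1 i.2.2 i.2.1.2)
  have key : ∀ i : ι, IsIso (r.app (W i : Q.Opens)) := by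
    rintro ⟨U, ⟨ε, hε⟩, e⟩
    have hpc : r ⁻¹ᵁ C.piece U (tm e ε) = B.piece U e := hpre ⟨U, ⟨ε, hε⟩, e⟩
    let ρ : Γ(Q, C.piece U (tm e ε)) ⟶ Γ(B.P, B.piece U e) := r.appLE _ _ hpc.ge
    suffices hρ : IsIso ρ by
      have h0 : ρ = r.app _ ≫ B.P.presheaf.map (homOfLE hpc.ge).op := rfl
      haveI : IsIso (B.P.presheaf.map (homOfLE hpc.ge).op) :=
        ⟨B.P.presheaf.map (homOfLE hpc.le).op,
          by rw [← Functor.map_comp]; exact B.P.presheaf.map_id _,
          by rw [← Functor.map_comp]; exact B.P.presheaf.map_id _⟩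
      rw [h0] at hρ
      exact IsIso.of_isIso_comp_right _ (B.P.presheaf.map (homOfLE hpc.ge).op)
    let G : Away (dg 𝒯 U) (ev k U (tm e ε)) →+* Away (dg B.S U) (ev B.j U e) :=
      ((pieceIso C U (tm e ε)).inv ≫ ρ ≫ (pieceIso B U e).hom).hom
    obtain ⟨Φ, hΦs, hΦe⟩ := exists_gradedHom (B := B) U ε k hk
    let H : Away (dg B.S U) (ev B.j U e) →+* Away (dg 𝒯 U) (ev k U (tm e ε)) :=
      (RingEquiv.cast (R := fun f => Away (dg 𝒯 U) f) (hΦe e)).toRingHom.comp (Away.map Φ (ev B.j U e))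
    have hcastmk : ∀ {f f' : 𝒯.presheaf.obj (op U.1)} (he : f = f') (hf : f ∈ dg 𝒯 U 1)
        (a a' : 𝒯.presheaf.obj (op U.1)) (ha : a = a') (h1 : a ∈ dg 𝒯 U (1 • 1)) (h2 : a' ∈ dg 𝒯 U (1 • 1)),
        (RingEquiv.cast (R := fun g => Away (dg 𝒯 U) g) he) (Away.mk (dg 𝒯 U) hf 1 a h1) =
          Away.mk (dg 𝒯 U) (f := f') (he ▸ hf) 1 a' h2 := by
      intro f f' he hf a a' ha h1 h2; subst he; subst ha; rfl
    have hcast0 : ∀ {f f' : 𝒯.presheaf.obj (op U.1)} (he : f = f') (a : dg 𝒯 U 0),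
        (RingEquiv.cast (R := fun g => Away (dg 𝒯 U) g) he) (fromZeroRingHom (dg 𝒯 U) _ a) =
          fromZeroRingHom (dg 𝒯 U) _ a := by
      intro f f' he a; subst he; rfl
    have hG0 : ∀ r₀, G (fromZeroRingHom (dg 𝒯 U) _ ((𝒯.strZero U.1 U.2).hom r₀)) =
        fromZeroRingHom (dg B.S U) _ ((B.S.strZero U.1 U.2).hom r₀) := fun r₀ => by
      show (pieceIso B U e).hom (ρ ((pieceIso C U (tm e ε)).inv _)) = _
      rw [← pieceIso_str C U (tm e ε) r₀, Iso.hom_inv_id_apply, ← pieceIso_str B U e r₀]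
      refine congrArg (pieceIso B U e).hom ?_
      have hgen : ∀ (g : B.P ⟶ Y) (hr : r ≫ q = g) (h1 : B.piece U e ≤ g ⁻¹ᵁ U.1),
          (r.appLE _ _ hpc.ge) (fres Q (pc_le U (tm e ε)) (q.app U.1 r₀)) = fres B.P h1 (g.app U.1 r₀) := by
        rintro g rfl h1
        show (r.appLE _ _ hpc.ge).hom ((Q.presheaf.map (homOfLE (pc_le U (tm e ε))).op).hom ((q.app U.1).hom r₀)) =
          (B.P.presheaf.map (homOfLE h1).op).hom ((r.app (q ⁻¹ᵁ U.1)).hom ((q.app U.1).hom r₀))
        rw [← CommRingCat.comp_apply (Q.presheaf.map _), Scheme.Hom.map_appLE]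
        rfl
      exact hgen B.p h.comp (pc_le U e)
    have hG1 : ∀ b, G (Away.mk (dg 𝒯 U) (f := ev k U (tm e ε)) (hk.2 U.1 U.2 _) 1 (ev k U (tm b ε))
        (by simpa using hk.2 U.1 U.2 (tm b ε))) =
        Away.mk (dg B.S U) (f := ev B.j U e) (B.isSym.2 U.1 U.2 e) 1 (ev B.j U b)
          (by simpa using B.isSym.2 U.1 U.2 b) := fun b => by
      obtain ⟨sC, hsC⟩ := C.exists_img_eq U (tm e ε) (tm b ε)
      obtain ⟨sB, hsB⟩ := B.exists_img_eq U e b
      show (pieceIso B U e).hom (ρ ((pieceIso C U (tm e ε)).inv _)) = _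
      rw [← pieceIso_rat C U (tm e ε) (tm b ε) hsC, Iso.hom_inv_id_apply, ← pieceIso_rat B U e b hsB]
      refine congrArg (pieceIso B U e).hom ?_
      let u := mres ((Scheme.Modules.pullback B.p).obj L) (pc_le U e : B.piece U e ≤ _)
        ((unitL B L).app U.1 ε)
      have hgu : IsGen ((Scheme.Modules.pullback B.p).obj L) (B.piece U e) u :=
        (isGen_unit B.p hL hε).restrict _
      have himg : ∀ b', mres (CohB1.tensorMod B.O ((Scheme.Modules.pullback B.p).obj L)) hpc.ge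
          (C.up θ (C.img U (tm e ε) (tm b' ε))) = tm (B.img U e b') u := fun b' => by
        rw [h.app_img, InvExt.mres_mres, twMap_tm, mres_tm]
      have h1 : C.up θ (C.img U (tm e ε) (tm b ε)) =
          r.app (C.piece U (tm e ε)) sC • C.up θ (C.img U (tm e ε) (tm e ε)) := by
        rw [hsC]; exact Ample.app_smul θ sC _
      have h2 := congrArg (mres (CohB1.tensorMod B.O ((Scheme.Modules.pullback B.p).obj L)) hpc.ge) h1
      rw [InvExt.mres_smul, himg, himg, hsB, tm_smul_left] at h2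
      exact ((isGen_tm (B.isGen_img U e) hgu).smul_left_injective le_rfl
        (by rw [InvExt.mres_self]; exact h2)).symm
    have hH0 : ∀ r₀, H (fromZeroRingHom (dg B.S U) _ ((B.S.strZero U.1 U.2).hom r₀)) =
        fromZeroRingHom (dg 𝒯 U) _ ((𝒯.strZero U.1 U.2).hom r₀) := fun r₀ => by
      have : Away.map Φ (ev B.j U e) (fromZeroRingHom (dg B.S U) _ ((B.S.strZero U.1 U.2).hom r₀)) =
          fromZeroRingHom (dg 𝒯 U) _ ((𝒯.strZero U.1 U.2).hom r₀) := by
        refine HomogeneousLocalization.val_injective _ ?_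
        simp only [Away.map, HomogeneousLocalization.map, fromZeroRingHom]
        simp [HomogeneousLocalization.val_mk, hΦs]
        exact congrArg (fun a => Localization.mk a 1) (hΦs r₀)
      show (RingEquiv.cast (R := fun g => Away (dg 𝒯 U) g) (hΦe e)) (Away.map Φ (ev B.j U e) _) = _
      rw [this]
      exact hcast0 (hΦe e) _
    have hH1 : ∀ b, H (Away.mk (dg B.S U) (f := ev B.j U e) (B.isSym.2 U.1 U.2 e) 1 (ev B.j U b)
          (by simpa using B.isSym.2 U.1 U.2 b)) =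
        Away.mk (dg 𝒯 U) (f := ev k U (tm e ε)) (hk.2 U.1 U.2 _) 1 (ev k U (tm b ε))
          (by simpa using hk.2 U.1 U.2 (tm b ε)) := fun b => by
      show (RingEquiv.cast (R := fun g => Away (dg 𝒯 U) g) (hΦe e)) (Away.map Φ (ev B.j U e) _) = _
      rw [Away.map_mk]
      exact hcastmk (hΦe e) _ _ _ (hΦe b) _ _
    have hGH : G.comp H = RingHom.id _ := by
      refine away_hom_ext (𝒜 := dg B.S U) (f := ev B.j U e) (B.isSym.2 U.1 U.2 e) (Set.range (ev B.j U))
        (closure_gens B U) (by rintro _ ⟨b, rfl⟩; exact B.isSym.2 U.1 U.2 b) (fun a => ?_) ?_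
      · obtain ⟨r₀, rfl⟩ := (str_bijective_zero B.isQCoh B.isSym U.1 U.2).2 a
        rw [RingHom.comp_apply, hH0, hG0]
        rfl
      · rintro _ ⟨b, rfl⟩
        rw [RingHom.comp_apply, hH1, hG1]
        rfl
    have hHG : H.comp G = RingHom.id _ := by
      refine away_hom_ext (𝒜 := dg 𝒯 U) (f := ev k U (tm e ε)) (hk.2 U.1 U.2 _) (Set.range (ev k U))
        (closure_gens C U) (by rintro _ ⟨t, rfl⟩; exact hk.2 U.1 U.2 t) (fun a => ?_) ?_
      · obtain ⟨r₀, rfl⟩ := (str_bijective_zero C.isQCoh hk U.1 U.2).2 a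
        rw [RingHom.comp_apply, hG0, hH0]
        rfl
      · rintro _ ⟨t, rfl⟩
        obtain ⟨b, hb⟩ := (TensorGen.bijective_tm B.E L hε).2 t
        obtain rfl : tm b ε = t := hb
        rw [RingHom.comp_apply, hG1, hH1]
        rfl
    have hGiso : IsIso ((pieceIso C U (tm e ε)).inv ≫ ρ ≫ (pieceIso B U e).hom) :=
      (ConcreteCategory.isIso_iff_bijective _).mpr
        ⟨Function.LeftInverse.injective (g := H) fun z => RingHom.congr_fun hHG z,
          Function.RightInverse.surjective (g := H) fun z => RingHom.congr_fun hGH z⟩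
    haveI := IsIso.of_isIso_comp_left (pieceIso C U (tm e ε)).inv (ρ ≫ (pieceIso B U e).hom)
    exact IsIso.of_isIso_comp_right ρ (pieceIso B U e).hom
  haveI hiso : IsIso r := by
    refine HasAffineProperty.of_iSup_eq_top (P := MorphismProperty.isomorphisms Scheme) W hW fun i => ?_
    haveI := key i
    refine ⟨?_, ?_⟩
    · show IsAffineOpen (r ⁻¹ᵁ (W i : Q.Opens))
      rw [hpre]
      exact isAffineOpen_piece B _ _
    · simp only [Scheme.Hom.appTop, Opens.map_top, morphismRestrict_app]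
      refine IsIso.comp_isIso' ?_ inferInstance
      have h0 : ∀ V : Q.Opens, V = (W i : Q.Opens) → IsIso (r.app V) := by rintro V rfl; exact key i
      exact h0 _ (Scheme.Opens.ι_image_top _)
  refine ⟨asIso r, h.comp, ?_⟩
  haveI := h.isIso_symm
  exact ⟨asIso (((Scheme.Modules.pullbackPushforwardAdjunction r).homEquiv C.O _).symm θ)⟩

end GrothLib.BdlTensor8
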