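import Groth.Agent.Lib.BdlTensor8.Basic
import Groth.Agent.Lib.RelTwistPow8.Basic
import Groth.Agent.Lib.WeilFin11.Basic
import Groth.Agent.Lib.Ample.Product

/-!
# Powers of twists under the comparison of twisted bundles
-/

set_option autoImplicit false
set_option linter.all false
set_option backward.isDefEq.respectTransparency false
set_option maxHeartbeats 1000000

universe u

open CategoryTheory CategoryTheory.Limits AlgebraicGeometry TopologicalSpace Opposite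

noncomputable section

namespace GrothLib.BdlTensor8

variable {Y P : Scheme.{u}} {𝒮 : RelProj.QCGrAlg Y} {p : P ⟶ Y}
  {chart : ∀ (U : Y.Opens) (hU : IsAffineOpen U), (((p ⁻¹ᵁ U : P.Opens) : Scheme.{u}) ≅ Proj (𝒮.deg U hU))}

/-- The twist by zero is trivial. -/
theorem nonempty_twist_zero (hP : RelProj.IsRelProj 𝒮 p chart) (hgen : 𝒮.IsGenDegOne) (L : P.Modules)
    (lam : ∀ (U : Y.Opens) (hU : IsAffineOpen U),
      L ⟶ (Scheme.Modules.pushforward (RelProj.emb p chart U hU)).obj (GrTwist.twist (𝒮.deg U hU) ((0 : ℕ) : ℤ)))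
    (hL : RelProj.IsRelTwist 𝒮 p chart ((0 : ℕ) : ℤ) L lam) : Nonempty (L ≅ Coh.structureModule P) := by
  obtain ⟨M, lamM, hM⟩ := RelProjK.exists_isRelTwist (chart := chart) hP (1 : ℤ)
  obtain ⟨M', lamM', hM'⟩ := RelProjK.exists_isRelTwist (chart := chart) hP (-1 : ℤ)
  obtain ⟨a⟩ := RelTwistPow8.nonempty_tensor_neg hP hgen hM hM'
  obtain ⟨b⟩ := RelProjK.nonempty_tensor_iso hP (show (1 : ℤ) + -1 = ((0 : ℕ) : ℤ) by simp) hM hM' hL
    (RelProjK.exists_frac_chart p chart hgen (-1))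
  exact ⟨b.symm ≪≫ a⟩

/-- Twists of degree `n + 1`. -/
theorem nonempty_twist_succ (hP : RelProj.IsRelProj 𝒮 p chart) (hgen : 𝒮.IsGenDegOne) (n : ℕ)
    {L0 L1 L : P.Modules} {lam0 : ∀ (U : Y.Opens) (hU : IsAffineOpen U),
      L0 ⟶ (Scheme.Modules.pushforward (RelProj.emb p chart U hU)).obj (GrTwist.twist (𝒮.deg U hU) (n : ℤ))}
    (h0 : RelProj.IsRelTwist 𝒮 p chart (n : ℤ) L0 lam0) {lam1 : ∀ (U : Y.Opens) (hU : IsAffineOpen U),
      L1 ⟶ (Scheme.Modules.pushforward (RelProj.emb p chart U hU)).obj (GrTwist.twist (𝒮.deg U hU) 1)}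
    (h1 : RelProj.IsRelTwist 𝒮 p chart 1 L1 lam1) {lam : ∀ (U : Y.Opens) (hU : IsAffineOpen U),
      L ⟶ (Scheme.Modules.pushforward (RelProj.emb p chart U hU)).obj (GrTwist.twist (𝒮.deg U hU) ((n + 1 : ℕ) : ℤ))}
    (hL : RelProj.IsRelTwist 𝒮 p chart ((n + 1 : ℕ) : ℤ) L lam) : Nonempty (CohB1.tensorMod L0 L1 ≅ L) :=
  RelProjK.nonempty_tensor_iso hP (show (n : ℤ) + 1 = ((n + 1 : ℕ) : ℤ) by push_cast; ring) h0 h1 hL
    (RelProjK.exists_frac_chart p chart hgen 1)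

variable {Q : Scheme.{u}} {𝒯 : RelProj.QCGrAlg Y} {q : Q ⟶ Y}
  {chartQ : ∀ (U : Y.Opens) (hU : IsAffineOpen U), (((q ⁻¹ᵁ U : Q.Opens) : Scheme.{u}) ≅ Proj (𝒯.deg U hU))}

/-- A comparison in degree one gives comparisons in all degrees. -/
theorem nonempty_pullback_twist (hP : RelProj.IsRelProj 𝒮 p chart) (hgen : 𝒮.IsGenDegOne)
    (hQ : RelProj.IsRelProj 𝒯 q chartQ) (hgenT : 𝒯.IsGenDegOne) {L : Y.Modules} (hL : PicF.IsInvertible L)
    (r : P ⟶ Q) {O1 : P.Modules} {lam1 : ∀ (U : Y.Opens) (hU : IsAffineOpen U),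
      O1 ⟶ (Scheme.Modules.pushforward (RelProj.emb p chart U hU)).obj (GrTwist.twist (𝒮.deg U hU) 1)}
    (h1 : RelProj.IsRelTwist 𝒮 p chart 1 O1 lam1) {O1' : Q.Modules} {lam1' : ∀ (U : Y.Opens) (hU : IsAffineOpen U),
      O1' ⟶ (Scheme.Modules.pushforward (RelProj.emb q chartQ U hU)).obj (GrTwist.twist (𝒯.deg U hU) 1)}
    (h1' : RelProj.IsRelTwist 𝒯 q chartQ 1 O1' lam1')
    (e : (Scheme.Modules.pullback r).obj O1' ≅ CohB1.tensorMod O1 ((Scheme.Modules.pullback p).obj L)) :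
    ∀ (n : ℕ) (OP : P.Modules)
        (lamP : ∀ (U : Y.Opens) (hU : IsAffineOpen U),
          OP ⟶ (Scheme.Modules.pushforward (RelProj.emb p chart U hU)).obj (GrTwist.twist (𝒮.deg U hU) (n : ℤ)))
        (OQ : Q.Modules)
        (lamQ : ∀ (U : Y.Opens) (hU : IsAffineOpen U),
          OQ ⟶ (Scheme.Modules.pushforward (RelProj.emb q chartQ U hU)).obj (GrTwist.twist (𝒯.deg U hU) (n : ℤ))),
        RelProj.IsRelTwist 𝒮 p chart (n : ℤ) OP lamP → RelProj.IsRelTwist 𝒯 q chartQ (n : ℤ) OQ lamQ →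
          Nonempty ((Scheme.Modules.pullback r).obj OQ ≅
            CohB1.tensorMod OP ((Scheme.Modules.pullback p).obj (CohB1.tensorPow L n))) := by
  intro n
  induction n with
  | zero =>
    intro OP lamP OQ lamQ hOP hOQ
    obtain ⟨a⟩ := nonempty_twist_zero hP hgen OP lamP hOP
    obtain ⟨b⟩ := nonempty_twist_zero hQ hgenT OQ lamQ hOQ
    obtain ⟨c⟩ := Ample.nonempty_pullback_structureModule r
    obtain ⟨d⟩ := Ample.nonempty_pullback_structureModule p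
    exact ⟨(Scheme.Modules.pullback r).mapIso b ≪≫ c ≪≫ (OX.tensorUnitLeftIso (Coh.structureModule P)).symm ≪≫
      Ample.LineData.tensorModMapIso a.symm d.symm⟩
  | succ n ih =>
    intro OP lamP OQ lamQ hOP hOQ
    obtain ⟨A, lamA, hA⟩ := RelProjK.exists_isRelTwist (chart := chart) hP (n : ℤ)
    obtain ⟨A', lamA', hA'⟩ := RelProjK.exists_isRelTwist (chart := chartQ) hQ (n : ℤ)
    obtain ⟨f⟩ := ih A lamA A' lamA' hA hA'
    obtain ⟨a⟩ := nonempty_twist_succ hP hgen n hA h1 hOP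
    obtain ⟨b⟩ := nonempty_twist_succ hQ hgenT n hA' h1' hOQ
    obtain ⟨c⟩ := Ample.nonempty_pullback_tensorMod r (RelProjK.isInvertible_of_isRelTwist hgenT hA')
      (RelProjK.isInvertible_of_isRelTwist hgenT h1')
    obtain ⟨d⟩ := Ample.nonempty_pullback_tensorMod p (Ample.isInvertible_tensorPow hL n) hL
    exact ⟨(Scheme.Modules.pullback r).mapIso b.symm ≪≫ c ≪≫ Ample.LineData.tensorModMapIso f e ≪≫
      WeilFin11.interchangeIso _ _ _ _ ≪≫ Ample.LineData.tensorModMapIso a d.symm⟩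

end GrothLib.BdlTensor8
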