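import Groth.Agent.Lib.BdlTensor8.Basic
import Groth.Agent.Lib.Ample.RelAmple
import Groth.Agent.Lib.Euler.Coh

/-!
# The bundle of a quotient
-/

set_option autoImplicit false
set_option linter.all false
set_option backward.isDefEq.respectTransparency false
set_option maxHeartbeats 1000000

universe u

open CategoryTheory CategoryTheory.Limits AlgebraicGeometry TopologicalSpace Opposite
open GrothLib.InvExt (mres fres IsGen)
open GrothLib.VA

noncomputable section

namespace GrothLib.BdlTensor8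

variable {Y : Scheme.{u}} (B C : Bdl Y) (φ : B.E ⟶ C.E) [Epi φ]

include φ in
/-- The bundle of a quotient maps by an affine morphism to the bundle, compatibly with the fundamental sheaves. -/
theorem exists_hom_of_epi :
    ∃ r : C.P ⟶ B.P, IsAffineHom r ∧ r ≫ B.p = C.p ∧
      Nonempty ((Scheme.Modules.pullback r).obj B.O ≅ C.O) := by
  let ψ : B.E ⟶ (Scheme.Modules.pushforward C.p).obj C.O := φ ≫ C.can
  have hcan : IsGenBy C.p C.can := fun x => by
    obtain ⟨U, hU, hx, -⟩ := exists_isAffineOpen_mem_and_subset (Opens.mem_top (C.p x))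
    obtain ⟨e, he⟩ := exists_pc (chart := C.chart) C.isQCoh C.isSym ⟨U, hU⟩ (z := x) hx
    exact ⟨U, hU, e, C.piece ⟨U, hU⟩ e, pc_le _ e, he, C.isGen_img ⟨U, hU⟩ e⟩
  have hψ : IsGenBy C.p ψ := by
    haveI := epi_symm_of_isGenBy C.p C.can hcan
    haveI := Functor.preservesEpimorphisms_of_adjunction (Scheme.Modules.pullbackPushforwardAdjunction C.p)
    haveI : Epi (((Scheme.Modules.pullbackPushforwardAdjunction C.p).homEquiv B.E C.O).symm ψ) := by
      rw [Adjunction.homEquiv_naturality_left_symm]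
      exact epi_comp _ _
    exact exists_genAt_of_epi C.p C.isInvertible ψ
  obtain ⟨r, θ, h⟩ := Bdl.exists_lift (B := B) hψ
  have hTp : ∀ (U : Y.AffineZariskiSite) (e : Γ(B.E, U.1)), r ⁻¹ᵁ B.piece U e = C.piece U (φ.app U.1 e) := by
    intro U e
    rw [h.preimage_piece]
    ext x
    show x ∈ genOpen _ _ ↔ x ∈ C.piece U (φ.app U.1 e)
    rw [mem_genOpen]
    exact ⟨fun hg => mem_pc_of_genAt C.isQCoh C.isSym C.isCanon hg,
      fun hx => ⟨_, pc_le U _, hx, C.isGen_img U _⟩⟩
  haveI := h.isIso_symm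
  refine ⟨r, ?_, h.comp,
    ⟨asIso (((Scheme.Modules.pullbackPushforwardAdjunction r).homEquiv B.O C.O).symm θ)⟩⟩
  refine HasAffineProperty.of_iSup_eq_top (P := @IsAffineHom)
    (fun i : Σ U : Y.AffineZariskiSite, Γ(B.E, U.1) => ⟨B.piece i.1 i.2, isAffineOpen_piece B _ _⟩)
    (iSup_pc B.isQCoh B.isSym) fun i => ?_
  show IsAffineOpen (r ⁻¹ᵁ B.piece i.1 i.2)
  rw [hTp]
  exact isAffineOpen_piece C _ _

end GrothLib.BdlTensor8
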